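import Cfsg.Agent.H577.KGV.Fields

/-!
# The constants of the product formula (KGV, NT6b; helper577)

* `PG_mul_inv` : `P(w) P(w⁻¹) = q` for `w` of odd order; `cG_odd : cG p T f ℓ a = q ^ ((ℓ - 1) / 2)`;
* `cG_two`; `cst` : the field `cst` of `GaussSys`.
-/

set_option autoImplicit false

namespace Cfsg.Agent.H577.KGV

open Finset Polynomial Cfsg.Agent.H644.KGV

variable {p : ℕ} [Fact p.Prime]
variable {γ : ℕ → AlgebraicClosure (ZMod p)} (hγ : NormGen p γ)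

theorem PG_mul_inv {f ℓ : ℕ} {a : ZMod p} {w : ℂ} (hf : 1 ≤ f) (ha : a ≠ 0) (hw : w ^ (p ^ f - 1) = 1)
    (hw1 : w ≠ 1) (hl : Odd ℓ) (hwl : w ^ ℓ = 1) :
    PG p (TT hγ) f a w * PG p (TT hγ) f a w⁻¹ = (p : ℂ) ^ f := by
  have := finite_KF p hf
  have := Fintype.ofFinite (KF p f)
  have hwi : w⁻¹ ^ (p ^ f - 1) = 1 := by rw [inv_pow, hw, inv_one]
  have h0 : om hγ hf w⁻¹ = (om hγ hf w)⁻¹ := by
    rw [eq_inv_iff_mul_eq_one, ← om_mul hγ hf hwi hw, inv_mul_cancel₀, om_one]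
    rintro rfl
    rw [zero_pow (Nat.sub_ne_zero_of_lt (one_lt_q p hf))] at hw
    exact zero_ne_one hw
  have h1 : om hγ hf w ≠ 1 := fun h => hw1 ((om_eq_one_iff hγ hf hw).1 h)
  have h2 := gaussSum_mul_gaussSum_eq_card h1 (psi_primitive p hf ha)
  have h3 := mul_gaussSum_inv_eq_gaussSum (om hγ hf w)⁻¹ (psi p f a)
  have h4 : (om hγ hf w)⁻¹ (-1) = 1 := by
    have h5 : ((om hγ hf w)⁻¹ (-1 : KF p f)) ^ 2 = 1 := by
      rw [← map_pow, neg_one_sq, map_one]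
    have h6 : ((om hγ hf w)⁻¹ (-1 : KF p f)) ^ ℓ = 1 := by
      have h7 : ((om hγ hf w)⁻¹) ^ ℓ = 1 := by
        rw [inv_pow, ← om_pow hγ hf hw, hwl, om_one, inv_one]
      have h8 := MulChar.pow_apply_coe ((om hγ hf w)⁻¹) ℓ (-1 : (KF p f)ˣ)
      rw [h7, MulChar.one_apply_coe] at h8
      rw [Units.val_neg, Units.val_one] at h8
      exact h8.symm
    obtain ⟨n, rfl⟩ := hl
    rwa [pow_succ, pow_mul, h5, one_pow, one_mul] at h6
  rw [h4, one_mul] at h3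
  rw [PG_eq hγ hf a hw, PG_eq hγ hf a hwi, h0, neg_mul_neg, ← h3, h2, card_KF' hf]
  push_cast
  rfl

theorem prod_pairs {h : ℕ → ℂ} {c : ℂ} (n : ℕ) (hc : ∀ i < n, h (i + 1) * h (2 * n + 1 - (i + 1)) = c) :
    ∏ i ∈ range (2 * n + 1), h i = h 0 * c ^ n := by
  rw [Finset.prod_range_succ', mul_comm, two_mul, Finset.prod_range_add]
  congr 1
  have h1 : ∏ x ∈ range n, h (n + x + 1) = ∏ i ∈ range n, h (2 * n + 1 - (i + 1)) := by
    rw [← Finset.prod_range_reflect]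
    refine Finset.prod_congr rfl fun i hi => ?_
    rw [Finset.mem_range] at hi
    congr 1
    omega
  rw [h1, ← Finset.prod_mul_distrib, Finset.prod_congr rfl (fun i hi => hc i (Finset.mem_range.1 hi)),
    Finset.prod_const, Finset.card_range]

theorem prod_nthRoots {ℓ : ℕ} (hl : 0 < ℓ) (g : ℂ → ℂ) :
    ∏ w ∈ nthRootsFinset ℓ (1 : ℂ), g w =
      ∏ i ∈ range ℓ, g (Complex.exp (2 * Real.pi * Complex.I / ℓ) ^ i) := by
  have hp := Complex.isPrimitiveRoot_exp ℓ hl.ne'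
  have : NeZero ℓ := ⟨hl.ne'⟩
  symm
  refine Finset.prod_bij (fun i _ => Complex.exp (2 * Real.pi * Complex.I / ℓ) ^ i) ?_ ?_ ?_ ?_
  · intro i _
    rw [mem_nthRootsFinset hl, ← pow_mul, Nat.mul_comm, pow_mul, hp.pow_eq_one, one_pow]
  · intro i hi j hj hij
    exact hp.pow_inj (Finset.mem_range.1 hi) (Finset.mem_range.1 hj) hij
  · intro w hw
    rw [mem_nthRootsFinset hl] at hw
    obtain ⟨i, hi, hiw⟩ := hp.eq_pow_of_pow_eq_one hw
    exact ⟨i, Finset.mem_range.2 hi, hiw⟩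
  · intro i _
    rfl

/-- The constant for odd `ℓ`. -/
theorem cG_odd {f ℓ : ℕ} {a : ZMod p} (hf : 1 ≤ f) (ha : a ≠ 0) (hl : Odd ℓ) (hd : ℓ ∣ p ^ f - 1) :
    cG p (TT hγ) f ℓ a = ((p : ℂ) ^ f) ^ ((ℓ - 1) / 2) := by
  have hl0 : 0 < ℓ := hl.pos
  have hp := Complex.isPrimitiveRoot_exp ℓ hl0.ne'
  set ζ := Complex.exp (2 * Real.pi * Complex.I / ℓ) with hζ
  rw [cG, prod_nthRoots hl0, ← hζ]
  obtain ⟨n, rfl⟩ := hl
  have hq : ∀ i : ℕ, (ζ ^ i) ^ (p ^ f - 1) = 1 := by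
    intro i
    obtain ⟨c, hc⟩ := hd
    rw [hc, ← pow_mul, mul_comm, mul_assoc, pow_mul, hp.pow_eq_one, one_pow]
  rw [prod_pairs (c := (p : ℂ) ^ f) n, pow_zero, one hγ f a hf ha, one_mul]
  · congr 1
    omega
  · intro i hi
    have h1 : ζ ^ (2 * n + 1 - (i + 1)) = (ζ ^ (i + 1))⁻¹ := by
      apply eq_inv_of_mul_eq_one_left
      rw [← pow_add, Nat.sub_add_cancel (by omega), hp.pow_eq_one]
    rw [h1]
    refine PG_mul_inv hγ hf ha (hq _) ?_ (ℓ := 2 * n + 1) ⟨n, rfl⟩ ?_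
    · intro h
      have := (hp.pow_eq_one_iff_dvd (i + 1)).1 h
      have := Nat.le_of_dvd (by omega) this
      omega
    · rw [← pow_mul, mul_comm, pow_mul, hp.pow_eq_one, one_pow]

/-- The constant for `2`. -/
theorem cG_two {f : ℕ} {a : ZMod p} (hf : 1 ≤ f) (ha : a ≠ 0) :
    cG p (TT hγ) f 2 a = PG p (TT hγ) f a (-1) := by
  have h1 : nthRootsFinset 2 (1 : ℂ) = {1, -1} := by
    ext x
    rw [mem_nthRootsFinset (by norm_num), Finset.mem_insert, Finset.mem_singleton, pow_two, mul_self_eq_one_iff]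
  rw [cG, h1, Finset.prod_pair (by norm_num), one hγ f a hf ha, one_mul]

theorem sum_eq_count {n : ℕ} (P : ℕ → Prop) [DecidablePred P] (t : ℕ → ZMod p) (a : ZMod p) :
    ∑ j ∈ (range n).filter P, (ZMod.stdAddChar (a * t j) : ℂ) =
      ∑ k : ZMod p, (ZMod.stdAddChar (a * k) : ℂ) *
        ((((range n).filter P).filter (fun j => t j = k)).card : ℂ) := by
  rw [← Finset.sum_fiberwise_of_maps_to (g := t) (t := univ) (fun _ _ => mem_univ _)]
  refine Finset.sum_congr rfl fun k _ => ?_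
  rw [Finset.sum_congr rfl (g := fun _ => (ZMod.stdAddChar (a * k) : ℂ)), Finset.sum_const, nsmul_eq_mul,
    mul_comm]
  intro j hj
  rw [(Finset.mem_filter.1 hj).2]

theorem cst_two {f : ℕ} (hf : 1 ≤ f) : ∃ m : ZMod p → ℤ, ∀ a, a ≠ 0 →
    cG p (TT hγ) f 2 a = 1 + ((2 : ℕ) : ℂ) * ∑ k : ZMod p, (ZMod.stdAddChar (a * k) : ℂ) * (m k : ℂ) := by
  classical
  refine ⟨fun k => -((((range (p ^ f - 1)).filter Even).filter (fun j => TT hγ f j = k)).card : ℤ) -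
    if k = 0 then 1 else 0, fun a ha => ?_⟩
  have h1 := one hγ f a hf ha
  rw [cG_two hγ hf ha]
  rw [PG] at h1 ⊢
  simp only [one_pow, mul_one] at h1
  have h3 : ∑ j ∈ range (p ^ f - 1), (ZMod.stdAddChar (a * TT hγ f j) : ℂ) * (-1) ^ j =
      2 * ∑ j ∈ (range (p ^ f - 1)).filter Even, (ZMod.stdAddChar (a * TT hγ f j) : ℂ) -
      ∑ j ∈ range (p ^ f - 1), (ZMod.stdAddChar (a * TT hγ f j) : ℂ) := by
    rw [Finset.sum_filter, Finset.mul_sum, ← Finset.sum_sub_distrib]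
    refine Finset.sum_congr rfl fun j _ => ?_
    split_ifs with hj
    · rw [hj.neg_one_pow]
      ring
    · rw [(Nat.not_even_iff_odd.1 hj).neg_one_pow]
      ring
  have h4 : ∑ k : ZMod p, (ZMod.stdAddChar (a * k) : ℂ) *
      ((-((((range (p ^ f - 1)).filter Even).filter (fun j => TT hγ f j = k)).card : ℤ) -
        if k = 0 then 1 else 0 : ℤ) : ℂ) =
      -(∑ j ∈ (range (p ^ f - 1)).filter Even, (ZMod.stdAddChar (a * TT hγ f j) : ℂ)) - 1 := by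
    rw [sum_eq_count, ← Finset.sum_neg_distrib]
    have h5 : (1 : ℂ) = ∑ k : ZMod p, (ZMod.stdAddChar (a * k) : ℂ) * (if k = 0 then 1 else 0) := by
      simp
    rw [h5, ← Finset.sum_sub_distrib]
    refine Finset.sum_congr rfl fun k _ => ?_
    push_cast
    ring
  rw [h4, h3]
  push_cast
  linear_combination (-1 : ℂ) * h1

/-- The field `cst`. -/
theorem cst (f ℓ : ℕ) (hf : 1 ≤ f) (hl : ℓ.Prime) (hd : ℓ ∣ p ^ f - 1) : ∃ m : ZMod p → ℤ, ∀ a, a ≠ 0 →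
    cG p (TT hγ) f ℓ a = 1 + (ℓ : ℂ) * ∑ k : ZMod p, (ZMod.stdAddChar (a * k) : ℂ) * (m k : ℂ) := by
  classical
  rcases hl.eq_two_or_odd' with rfl | ho
  · exact cst_two hγ hf
  · have h1 : (ℓ : ℤ) ∣ ((p ^ f) ^ ((ℓ - 1) / 2) : ℕ) - 1 := by
      have h2 : ℓ ∣ (p ^ f) ^ ((ℓ - 1) / 2) - 1 := hd.trans (Nat.sub_one_dvd_pow_sub_one _ _)
      have h3 : 1 ≤ (p ^ f) ^ ((ℓ - 1) / 2) := Nat.one_le_pow _ _ (one_lt_q p hf).le
      have h4 := Int.natCast_dvd_natCast.2 h2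
      rwa [Nat.cast_sub h3, Nat.cast_one] at h4
    obtain ⟨c, hc⟩ := h1
    refine ⟨fun k => if k = 0 then c else 0, fun a ha => ?_⟩
    rw [cG_odd hγ hf ha ho hd]
    have h5 : ∑ k : ZMod p, (ZMod.stdAddChar (a * k) : ℂ) * ((if k = 0 then c else 0 : ℤ) : ℂ) = c := by
      simp
    rw [h5]
    have h6 : (((((p ^ f) ^ ((ℓ - 1) / 2) : ℕ) : ℤ) - 1 : ℤ) : ℂ) = ((ℓ : ℤ) * c : ℤ) := by rw [hc]
    push_cast at h6
    linear_combination h6

end Cfsg.Agent.H577.KGV
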