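import Cfsg.Agent.H577.KGV.NormGen
import Cfsg.Agent.H644.KGV.Defs

/-!
# The finite fields inside `AlgebraicClosure (ZMod p)` and their characters (KGV, NT6a; helper577)

* `KF p f` : the elements with `x ^ (p ^ f) = x`; `card_KF`, `KF_le`, `finite_KF`;
* `gK hγ hf` : the primitive element `γ f` of `KF p f`, `gU` the same as a unit, `mem_zpowers_gU`, `exists_pow`;
* `om hγ hf z` : the multiplicative character `γ_f ^ j ↦ z ^ j`; `om_pow`, `om_mul`, `om_one`, `exists_om`;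
* `psi p f a` : `x ↦ exp (2 π i a Tr x / p)`; `TT hγ f j = Tr (γ_f ^ j)`; `PG_eq : PG p T f a z = - gaussSum`.
-/

set_option autoImplicit false

namespace Cfsg.Agent.H577.KGV

open Finset Polynomial Cfsg.Agent.H644.KGV

variable (p : ℕ) [Fact p.Prime]

/-! ### The fields -/

/-- The subfield with `p ^ f` elements. -/
def KF (f : ℕ) : IntermediateField (ZMod p) (AlgebraicClosure (ZMod p)) where
  carrier := {x | x ^ p ^ f = x}
  mul_mem' := by
    intro a b ha hb
    rw [Set.mem_ofPred_eq] at ha hb ⊢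
    rw [mul_pow, ha, hb]
  one_mem' := one_pow _
  add_mem' := by
    intro a b ha hb
    rw [Set.mem_ofPred_eq] at ha hb ⊢
    rw [add_pow_char_pow, ha, hb]
  zero_mem' := by
    rw [Set.mem_ofPred_eq, zero_pow (pow_ne_zero _ (Fact.out : p.Prime).ne_zero)]
  algebraMap_mem' := by
    intro x
    rw [Set.mem_ofPred_eq, ← map_pow, ZMod.pow_card_pow]
  inv_mem' := by
    intro a ha
    change a ^ p ^ f = a at ha
    change a⁻¹ ^ p ^ f = a⁻¹
    rw [inv_pow, ha]

theorem mem_KF {f : ℕ} {x : AlgebraicClosure (ZMod p)} : x ∈ KF p f ↔ x ^ p ^ f = x := Iff.rfl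

theorem card_KF {f : ℕ} (hf : 1 ≤ f) : Nat.card (KF p f) = p ^ f := by
  have h1 : (KF p f : Set (AlgebraicClosure (ZMod p))) =
      (X ^ p ^ f - X : (AlgebraicClosure (ZMod p))[X]).rootSet (AlgebraicClosure (ZMod p)) := by
    ext x
    rw [mem_rootSet]
    simp only [aeval_def, eval₂_sub, eval₂_X_pow, eval₂_X, sub_eq_zero]
    constructor
    · intro h
      exact ⟨FiniteField.X_pow_card_pow_sub_X_ne_zero _ (by omega) (Fact.out : p.Prime).one_lt, h⟩
    · intro h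
      exact h.2
  have h2 : Nat.card (KF p f) = Fintype.card
      ((X ^ p ^ f - X : (AlgebraicClosure (ZMod p))[X]).rootSet (AlgebraicClosure (ZMod p))) := by
    rw [← Nat.card_eq_fintype_card]
    exact Nat.card_congr (Equiv.setCongr h1)
  rw [h2, card_rootSet_eq_natDegree (galois_poly_separable p _ (dvd_pow_self p (by omega)))
    (IsAlgClosed.splits _),
    FiniteField.X_pow_card_pow_sub_X_natDegree_eq _ (by omega) (Fact.out : p.Prime).one_lt]

theorem finite_KF {f : ℕ} (hf : 1 ≤ f) : Finite (KF p f) := by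
  apply Nat.finite_of_card_ne_zero
  rw [card_KF p hf]
  exact pow_ne_zero _ (Fact.out : p.Prime).ne_zero

theorem KF_le {f g : ℕ} (h : f ∣ g) : KF p f ≤ KF p g := by
  obtain ⟨m, rfl⟩ := h
  intro x hx
  rw [mem_KF] at hx ⊢
  induction m with
  | zero => rw [mul_zero, pow_zero, pow_one]
  | succ m ih => rw [mul_add, mul_one, pow_add, pow_mul, ih, hx]

theorem finrank_KF {f : ℕ} (hf : 1 ≤ f) : Module.finrank (ZMod p) (KF p f) = f := by
  have := finite_KF p hf
  have h1 := Module.natCard_eq_pow_finrank (K := ZMod p) (V := KF p f)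
  rw [card_KF p hf, Nat.card_zmod] at h1
  exact (Nat.pow_right_injective (Fact.out : p.Prime).two_le h1).symm

variable {p}

/-! ### The generators -/

section gen

variable {γ : ℕ → AlgebraicClosure (ZMod p)} (hγ : NormGen p γ) {f : ℕ} (hf : 1 ≤ f)

theorem one_lt_q (p : ℕ) [Fact p.Prime] {f : ℕ} (hf : 1 ≤ f) : 1 < p ^ f :=
  Nat.one_lt_pow (by omega) (Fact.out : p.Prime).one_lt

include hγ hf in
theorem gamma_pow : γ f ^ (p ^ f - 1) = 1 := by
  rw [← hγ.ord f hf, pow_orderOf_eq_one]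

include hγ hf in
theorem gamma_mem : γ f ∈ KF p f := by
  rw [mem_KF]
  have h1 : p ^ f = (p ^ f - 1) + 1 := (Nat.sub_add_cancel (one_lt_q p hf).le).symm
  rw [h1, pow_succ, gamma_pow hγ hf, one_mul]

include hγ hf in
theorem gamma_ne_zero : γ f ≠ 0 := by
  intro h
  have h1 := gamma_pow hγ hf
  rw [h, zero_pow (Nat.sub_ne_zero_of_lt (one_lt_q p hf))] at h1
  exact zero_ne_one h1

/-- The primitive element of `KF p f`. -/
def gK : KF p f := ⟨γ f, gamma_mem hγ hf⟩

theorem gK_coe : (gK hγ hf : AlgebraicClosure (ZMod p)) = γ f := rfl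

theorem gK_ne_zero : gK hγ hf ≠ 0 := fun h => gamma_ne_zero hγ hf (congrArg Subtype.val h)

theorem gK_pow : gK hγ hf ^ (p ^ f - 1) = 1 := Subtype.ext (gamma_pow hγ hf)

theorem orderOf_gK : orderOf (gK hγ hf) = p ^ f - 1 := by
  rw [← hγ.ord f hf, ← gK_coe hγ hf]
  exact (orderOf_injective (KF p f).val.toRingHom.toMonoidHom (KF p f).val.injective (gK hγ hf)).symm

/-- The primitive element as a unit. -/
noncomputable def gU : (KF p f)ˣ := Units.mk0 (gK hγ hf) (gK_ne_zero hγ hf)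

theorem gU_coe : (gU hγ hf : KF p f) = gK hγ hf := rfl

theorem orderOf_gU : orderOf (gU hγ hf) = p ^ f - 1 := by
  rw [← orderOf_gK hγ hf, ← gU_coe, orderOf_units]

theorem mem_zpowers_gU (x : (KF p f)ˣ) : x ∈ Subgroup.zpowers (gU hγ hf) := by
  have := finite_KF p hf
  have := Fintype.ofFinite (KF p f)
  have h1 : Nat.card (KF p f)ˣ = p ^ f - 1 := by
    rw [Nat.card_units, card_KF p hf]
  have h2 : Subgroup.zpowers (gU hγ hf) = ⊤ := by
    apply Subgroup.eq_top_of_card_eq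
    rw [Nat.card_zpowers, orderOf_gU, h1]
  rw [h2]
  exact Subgroup.mem_top x

/-- Every nonzero element is a power of the primitive element. -/
theorem exists_pow {x : KF p f} (hx : x ≠ 0) : ∃ j < p ^ f - 1, gK hγ hf ^ j = x := by
  classical
  have := finite_KF p hf
  have h1 := mem_zpowers_gU hγ hf (Units.mk0 x hx)
  rw [mem_zpowers_iff_mem_range_orderOf] at h1
  obtain ⟨j, hj, hjx⟩ := Finset.mem_image.1 h1
  rw [orderOf_gU, Finset.mem_range] at hj
  exact ⟨j, hj, congrArg Units.val hjx⟩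

/-! ### Multiplicative characters -/

open Classical in
/-- The multiplicative character `γ_f ^ j ↦ z ^ j` (`1` if `z` is not a root of unity of the right order). -/
noncomputable def om (z : ℂ) : MulChar (KF p f) ℂ :=
  if hz : z ^ (p ^ f - 1) = 1 then
    MulChar.ofUnitHom (monoidHomOfForallMemZpowers (mem_zpowers_gU hγ hf)
      (g' := Units.mk0 z (by
        rintro rfl
        rw [zero_pow (Nat.sub_ne_zero_of_lt (one_lt_q p hf))] at hz
        exact zero_ne_one hz)) (by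
        rw [orderOf_gU]
        apply orderOf_dvd_of_pow_eq_one
        exact Units.ext hz))
  else 1

theorem om_gK {z : ℂ} (hz : z ^ (p ^ f - 1) = 1) : om hγ hf z (gK hγ hf) = z := by
  rw [om, dif_pos hz, ← gU_coe, MulChar.ofUnitHom_coe, monoidHomOfForallMemZpowers_apply_gen]
  rfl

theorem om_gK_pow {z : ℂ} (hz : z ^ (p ^ f - 1) = 1) (j : ℕ) : om hγ hf z (gK hγ hf ^ j) = z ^ j := by
  rw [map_pow, om_gK hγ hf hz]

/-- Characters which agree at the primitive element are equal. -/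
theorem char_ext {χ χ' : MulChar (KF p f) ℂ} (h : χ (gK hγ hf) = χ' (gK hγ hf)) : χ = χ' := by
  apply MulChar.ext
  intro u
  obtain ⟨j, -, hj⟩ := exists_pow hγ hf u.ne_zero
  rw [← hj, map_pow, map_pow, h]

theorem char_gK_pow (χ : MulChar (KF p f) ℂ) : χ (gK hγ hf) ^ (p ^ f - 1) = 1 := by
  rw [← map_pow, gK_pow, map_one]

/-- Every character is of the form `om z`. -/
theorem om_char (χ : MulChar (KF p f) ℂ) : om hγ hf (χ (gK hγ hf)) = χ :=
  char_ext hγ hf (om_gK hγ hf (char_gK_pow hγ hf χ))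

theorem om_one : om hγ hf (1 : ℂ) = 1 := by
  apply char_ext hγ hf
  rw [om_gK hγ hf (one_pow _), ← gU_coe hγ hf, MulChar.one_apply_coe]

theorem om_mul {z w : ℂ} (hz : z ^ (p ^ f - 1) = 1) (hw : w ^ (p ^ f - 1) = 1) :
    om hγ hf (z * w) = om hγ hf z * om hγ hf w := by
  apply char_ext hγ hf
  rw [MulChar.mul_apply, om_gK hγ hf hz, om_gK hγ hf hw, om_gK hγ hf (by rw [mul_pow, hz, hw, one_mul])]

theorem om_pow {z : ℂ} (hz : z ^ (p ^ f - 1) = 1) (n : ℕ) : om hγ hf (z ^ n) = om hγ hf z ^ n := by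
  apply char_ext hγ hf
  rw [om_gK hγ hf (by rw [← pow_mul, mul_comm, pow_mul, hz, one_pow]), ← gU_coe hγ hf,
    MulChar.pow_apply_coe, gU_coe, om_gK hγ hf hz]

theorem om_inj {z w : ℂ} (hz : z ^ (p ^ f - 1) = 1) (hw : w ^ (p ^ f - 1) = 1) :
    om hγ hf z = om hγ hf w ↔ z = w := by
  constructor
  · intro h
    rw [← om_gK hγ hf hz, h, om_gK hγ hf hw]
  · rintro rfl
    rfl

theorem om_eq_one_iff {z : ℂ} (hz : z ^ (p ^ f - 1) = 1) : om hγ hf z = 1 ↔ z = 1 := by
  rw [← om_one hγ hf, om_inj hγ hf hz (one_pow _)]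

theorem orderOf_om {z : ℂ} (hz : z ^ (p ^ f - 1) = 1) : orderOf (om hγ hf z) = orderOf z := by
  apply orderOf_eq_orderOf_iff.2
  intro n
  rw [← om_pow hγ hf hz, om_eq_one_iff]
  rw [← pow_mul, mul_comm, pow_mul, hz, one_pow]

end gen

/-! ### Additive characters -/

section add

variable (p)

/-- The additive character `x ↦ exp (2 π i a Tr x / p)`. -/
noncomputable def psi (f : ℕ) (a : ZMod p) : AddChar (KF p f) ℂ :=
  addTrace (KF p f) ((ZMod.stdAddChar (N := p)).mulShift a)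

theorem psi_apply (f : ℕ) (a : ZMod p) (x : KF p f) :
    psi p f a x = ZMod.stdAddChar (a * Algebra.trace (ZMod p) (KF p f) x) := rfl

theorem exists_trace {f : ℕ} (hf : 1 ≤ f) (c : ZMod p) :
    ∃ x : KF p f, Algebra.trace (ZMod p) (KF p f) x = c := by
  have := finite_KF p hf
  exact Algebra.trace_surjective (ZMod p) (KF p f) c

theorem psi_ne_one {f : ℕ} (hf : 1 ≤ f) {a : ZMod p} (ha : a ≠ 0) : psi p f a ≠ 1 := by
  intro h
  obtain ⟨x, hx⟩ := exists_trace p hf a⁻¹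
  have h1 := DFunLike.congr_fun h x
  rw [psi_apply, hx, mul_inv_cancel₀ ha, AddChar.one_apply] at h1
  have h2 : (1 : ZMod p) = 0 := ZMod.injective_stdAddChar (by rw [h1, AddChar.map_zero_eq_one])
  exact one_ne_zero h2

theorem psi_primitive {f : ℕ} (hf : 1 ≤ f) {a : ZMod p} (ha : a ≠ 0) : (psi p f a).IsPrimitive :=
  AddChar.IsPrimitive.of_ne_one (psi_ne_one p hf ha)

theorem psi_mulShift (f : ℕ) (a : ZMod p) (n : ℕ) :
    (psi p f a).mulShift (n : KF p f) = psi p f ((n : ZMod p) * a) := by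
  ext x
  rw [AddChar.mulShift_apply, psi_apply, psi_apply]
  have h1 : (n : KF p f) * x = (n : ZMod p) • x := by
    rw [Algebra.smul_def, map_natCast]
  rw [h1, map_smul, smul_eq_mul]
  ring_nf

theorem psi_inv (f : ℕ) (a : ZMod p) : (psi p f a)⁻¹ = psi p f (-a) := by
  ext x
  rw [AddChar.inv_apply, psi_apply, psi_apply, map_neg]
  ring_nf

end add

/-! ### The trace function and the dictionary -/

section dict

variable {γ : ℕ → AlgebraicClosure (ZMod p)} (hγ : NormGen p γ)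

/-- `T f j = Tr (γ_f ^ j)`. -/
noncomputable def TT (f j : ℕ) : ZMod p :=
  if h : 1 ≤ f then Algebra.trace (ZMod p) (KF p f) (gK hγ h ^ j) else 0

theorem TT_eq {f : ℕ} (hf : 1 ≤ f) (j : ℕ) :
    TT hγ f j = Algebra.trace (ZMod p) (KF p f) (gK hγ hf ^ j) := dif_pos hf

/-- A sum over the nonzero elements. -/
theorem sum_ne_zero {f : ℕ} (hf : 1 ≤ f) [Fintype (KF p f)] (g : KF p f → ℂ) (h0 : g 0 = 0) :
    ∑ x, g x = ∑ j ∈ range (p ^ f - 1), g (gK hγ hf ^ j) := by
  classical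
  have h1 : ∑ x, g x = ∑ x ∈ (univ : Finset (KF p f)).erase 0, g x := by
    rw [← Finset.add_sum_erase univ g (mem_univ 0), h0, zero_add]
  rw [h1]
  symm
  refine Finset.sum_bij (fun j _ => gK hγ hf ^ j) ?_ ?_ ?_ ?_
  · intro j _
    rw [Finset.mem_erase]
    exact ⟨pow_ne_zero _ (gK_ne_zero hγ hf), mem_univ _⟩
  · intro i hi j hj hij
    rw [Finset.mem_range] at hi hj
    refine pow_injOn_Iio_orderOf (x := gK hγ hf) ?_ ?_ hij
    · rw [Set.mem_Iio, orderOf_gK]; exact hi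
    · rw [Set.mem_Iio, orderOf_gK]; exact hj
  · intro x hx
    rw [Finset.mem_erase] at hx
    obtain ⟨j, hj, hjx⟩ := exists_pow hγ hf hx.1
    exact ⟨j, Finset.mem_range.2 hj, hjx⟩
  · intro j _
    rfl

/-- **The dictionary.** -/
theorem PG_eq {f : ℕ} (hf : 1 ≤ f) [Fintype (KF p f)] (a : ZMod p) {z : ℂ} (hz : z ^ (p ^ f - 1) = 1) :
    PG p (TT hγ) f a z = -gaussSum (om hγ hf z) (psi p f a) := by
  rw [PG, gaussSum, sum_ne_zero hγ hf _ (by rw [MulChar.map_zero, zero_mul])]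
  congr 1
  refine Finset.sum_congr rfl fun j _ => ?_
  rw [om_gK_pow hγ hf hz, psi_apply, TT_eq hγ hf, mul_comm]

theorem card_KF' {f : ℕ} (hf : 1 ≤ f) [Fintype (KF p f)] : Fintype.card (KF p f) = p ^ f := by
  rw [← Nat.card_eq_fintype_card, card_KF p hf]

/-! ### Easy fields of `GaussSys` -/

theorem per (f j : ℕ) (hf : 1 ≤ f) : TT hγ f (j + (p ^ f - 1)) = TT hγ f j := by
  rw [TT_eq hγ hf, TT_eq hγ hf, pow_add, gK_pow, mul_one]

theorem trace_pow_p {f : ℕ} (hf : 1 ≤ f) (x : KF p f) :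
    Algebra.trace (ZMod p) (KF p f) (x ^ p) = Algebra.trace (ZMod p) (KF p f) x := by
  have := finite_KF p hf
  have h1 := Algebra.trace_eq_of_algEquiv (A := ZMod p)
    (FiniteField.frobeniusAlgEquivOfAlgebraic (ZMod p) (KF p f)) x
  rw [← h1]
  congr 1
  rw [FiniteField.coe_frobeniusAlgEquivOfAlgebraic, ZMod.card]

theorem frob (f j : ℕ) (hf : 1 ≤ f) : TT hγ f (p * j) = TT hγ f j := by
  rw [TT_eq hγ hf, TT_eq hγ hf, mul_comm, pow_mul, trace_pow_p hf]

theorem one (f : ℕ) (a : ZMod p) (hf : 1 ≤ f) (ha : a ≠ 0) : PG p (TT hγ) f a 1 = 1 := by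
  have := finite_KF p hf
  have := Fintype.ofFinite (KF p f)
  rw [PG_eq hγ hf a (one_pow _), om_one, gaussSum_one_left (psi_ne_one p hf ha), neg_neg]

theorem norm (f : ℕ) (a : ZMod p) (z : ℂ) (hf : 1 ≤ f) (ha : a ≠ 0) (hz : z ^ (p ^ f - 1) = 1)
    (hz1 : z ≠ 1) : ‖PG p (TT hγ) f a z‖ ^ 2 = (p : ℝ) ^ f := by
  have := finite_KF p hf
  have := Fintype.ofFinite (KF p f)
  have h1 : om hγ hf z ≠ 1 := fun h => hz1 ((om_eq_one_iff hγ hf hz).1 h)
  have h2 := gaussSum_mul_gaussSum_eq_card h1 (psi_primitive p hf ha)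
  rw [← star_gaussSum_eq, card_KF' hf] at h2
  have h3 : ((‖gaussSum (om hγ hf z) (psi p f a)‖ ^ 2 : ℝ) : ℂ) = ((p : ℝ) ^ f : ℝ) := by
    rw [← Complex.normSq_eq_norm_sq, ← Complex.mul_conj]
    push_cast
    push_cast at h2
    exact h2
  rw [PG_eq hγ hf a hz, norm_neg]
  exact_mod_cast h3

/-- `ζ ^ k - 1` is divisible by `1 - ζ`. -/
theorem exists_dvd (k : ZMod p) : ∃ y : ℂ, IsIntegral ℤ y ∧
    (ZMod.stdAddChar k : ℂ) - 1 = (1 - (ZMod.stdAddChar (1 : ZMod p) : ℂ)) * y := by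
  set ζ : ℂ := ZMod.stdAddChar (1 : ZMod p) with hζ
  have h1 : (ZMod.stdAddChar k : ℂ) = ζ ^ k.val := by
    rw [hζ, ← AddChar.map_nsmul_eq_pow, nsmul_eq_mul, mul_one, ZMod.natCast_val, ZMod.cast_id]
  have hint : IsIntegral ℤ ζ := by
    refine ⟨X ^ p - 1, monic_X_pow_sub_C 1 (Fact.out : p.Prime).ne_zero, ?_⟩
    have h2 : ζ ^ p = 1 := by
      rw [hζ, ← AddChar.map_nsmul_eq_pow, nsmul_eq_mul, mul_one, CharP.cast_eq_zero, AddChar.map_zero_eq_one]
    simp [h2]
  refine ⟨-∑ i ∈ range k.val, ζ ^ i, (IsIntegral.sum _ fun i _ => hint.pow i).neg, ?_⟩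
  rw [h1, mul_neg, ← neg_mul, neg_sub, mul_comm, geom_sum_mul]

theorem sum_root {n : ℕ} {z : ℂ} (hz : z ^ n = 1) (hz1 : z ≠ 1) : ∑ j ∈ range n, z ^ j = 0 := by
  have h := geom_sum_mul z n
  rw [hz, sub_self] at h
  rcases mul_eq_zero.1 h with h1 | h1
  · exact h1
  · exact absurd (sub_eq_zero.1 h1) hz1

theorem ideal (f : ℕ) (a : ZMod p) (z : ℂ) (hf : 1 ≤ f) (hz : z ^ (p ^ f - 1) = 1) (hz1 : z ≠ 1) :
    ∃ y : ℂ, IsIntegral ℤ y ∧ PG p (TT hγ) f a z = (1 - (ZMod.stdAddChar (1 : ZMod p) : ℂ)) * y := by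
  choose y hy hy' using exists_dvd (p := p)
  have hzi : IsIntegral ℤ z := by
    refine ⟨X ^ (p ^ f - 1) - 1, monic_X_pow_sub_C 1 (Nat.sub_ne_zero_of_lt (one_lt_q p hf)), ?_⟩
    simp [hz]
  refine ⟨-∑ j ∈ range (p ^ f - 1), y (a * TT hγ f j) * z ^ j,
    (IsIntegral.sum _ fun j _ => (hy _).mul (hzi.pow j)).neg, ?_⟩
  have h1 : ∑ j ∈ range (p ^ f - 1), (ZMod.stdAddChar (a * TT hγ f j) : ℂ) * z ^ j =
      ∑ j ∈ range (p ^ f - 1), ((ZMod.stdAddChar (a * TT hγ f j) : ℂ) - 1) * z ^ j := by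
    simp only [sub_mul, one_mul, Finset.sum_sub_distrib]
    rw [sum_root hz hz1, sub_zero]
  rw [PG, h1, mul_neg, Finset.mul_sum]
  congr 1
  refine Finset.sum_congr rfl fun j _ => ?_
  rw [hy', mul_assoc]

end dict

/-! ### Towers -/

theorem trace_trace_gen {k K L : Type*} [Field k] [Field K] [Field L] [Finite L] [Algebra k K]
    [Algebra K L] [Algebra k L] [IsScalarTower k K L] (x : L) :
    Algebra.trace k K (Algebra.trace K L x) = Algebra.trace k L x := by
  have := Finite.of_injective _ (algebraMap K L).injective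
  exact Algebra.trace_trace x

theorem trace_algebraMap_gen {k K L : Type*} [Field k] [Field K] [Field L] [Finite L] [Algebra k K]
    [Algebra K L] [Algebra k L] [IsScalarTower k K L] (x : K) :
    Algebra.trace k L (algebraMap K L x) = Module.finrank K L • Algebra.trace k K x := by
  have := Finite.of_injective _ (algebraMap K L).injective
  rw [← trace_trace_gen (K := K), Algebra.trace_algebraMap, map_nsmul]

section tower

variable (p)

/-- The inclusion of `KF p f` in `KF p (f * m)`. -/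
noncomputable def KFinc (f m : ℕ) : KF p f →ₐ[ZMod p] KF p (f * m) :=
  IntermediateField.inclusion (KF_le p (dvd_mul_right f m))

theorem KFinc_coe (f m : ℕ) (x : KF p f) :
    ((KFinc p f m x : KF p (f * m)) : AlgebraicClosure (ZMod p)) = x := rfl

/-- `KF p (f * m)` as an algebra over `KF p f`. -/
@[reducible] noncomputable def algKF (f m : ℕ) : Algebra (KF p f) (KF p (f * m)) :=
  (KFinc p f m).toRingHom.toAlgebra

theorem algebraMap_KF_coe (f m : ℕ) (x : KF p f) : letI := algKF p f m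
    ((algebraMap (KF p f) (KF p (f * m)) x : KF p (f * m)) : AlgebraicClosure (ZMod p)) = x := rfl

theorem tower_KF (f m : ℕ) : letI := algKF p f m
    IsScalarTower (ZMod p) (KF p f) (KF p (f * m)) := by
  let _ := algKF p f m
  exact IsScalarTower.of_algHom (KFinc p f m)

theorem finrank_tower {f m : ℕ} (hf : 1 ≤ f) (hm : 1 ≤ m) : letI := algKF p f m
    Module.finrank (KF p f) (KF p (f * m)) = m := by
  let _ := algKF p f m
  have h1 := tower_KF p f m
  have h2 := Module.finrank_mul_finrank (ZMod p) (KF p f) (KF p (f * m))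
  rw [finrank_KF p hf, finrank_KF p (Nat.mul_pos hf hm)] at h2
  exact Nat.eq_of_mul_eq_mul_left hf h2

theorem geom_eq {f : ℕ} (hf : 1 ≤ f) (m : ℕ) :
    ∑ i ∈ range m, (p ^ f) ^ i = (p ^ (f * m) - 1) / (p ^ f - 1) := by
  rw [Nat.geomSum_eq (one_lt_q p hf), pow_mul]

variable {p}
variable {γ : ℕ → AlgebraicClosure (ZMod p)} (hγ : NormGen p γ)

theorem norm_gK {f m : ℕ} (hf : 1 ≤ f) (hm : 1 ≤ m) : letI := algKF p f m
    Algebra.norm (KF p f) (gK hγ (Nat.mul_pos hf hm)) = gK hγ hf := by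
  let _ := algKF p f m
  have := finite_KF p (Nat.mul_pos hf hm)
  have h1 := FiniteField.algebraMap_norm_eq_pow_sum (KF p f) (KF p (f * m)) (gK hγ (Nat.mul_pos hf hm))
  rw [finrank_tower p hf hm, card_KF p hf, geom_eq p hf m] at h1
  have h2 := congrArg (Subtype.val : KF p (f * m) → AlgebraicClosure (ZMod p)) h1
  apply Subtype.ext
  exact h2.trans (hγ.comp f m hf hm)

omit [Fact p.Prime] in
theorem pow_q_one {f m : ℕ} {z : ℂ} (hz : z ^ (p ^ f - 1) = 1) : z ^ (p ^ (f * m) - 1) = 1 := by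
  have h1 : p ^ f - 1 ∣ p ^ (f * m) - 1 := by
    have h2 := Nat.sub_one_dvd_pow_sub_one (p ^ f) m
    rwa [← pow_mul] at h2
  obtain ⟨c, hc⟩ := h1
  rw [hc, pow_mul, hz, one_pow]

/-- `ω_z ∘ N = ω_z`. -/
theorem mulNorm_om {f m : ℕ} (hf : 1 ≤ f) (hm : 1 ≤ m) {z : ℂ} (hz : z ^ (p ^ f - 1) = 1) :
    letI := algKF p f m
    mulNorm (L := KF p (f * m)) (om hγ hf z) = om hγ (Nat.mul_pos hf hm) z := by
  let _ := algKF p f m
  apply char_ext hγ (Nat.mul_pos hf hm)
  rw [om_gK hγ _ (pow_q_one hz), ← gU_coe hγ (Nat.mul_pos hf hm), mulNorm, MulChar.ofUnitHom_coe]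
  change (om hγ hf z) (Algebra.norm (KF p f) (gK hγ (Nat.mul_pos hf hm))) = z
  rw [norm_gK hγ hf hm, om_gK hγ hf hz]

/-- `ψ ∘ Tr = ψ`. -/
theorem addTrace_psi {f m : ℕ} (hf : 1 ≤ f) (hm : 1 ≤ m) (a : ZMod p) : letI := algKF p f m
    addTrace (KF p (f * m)) (psi p f a) = psi p (f * m) a := by
  let _ := algKF p f m
  have := tower_KF p f m
  have := finite_KF p (Nat.mul_pos hf hm)
  have := finite_KF p hf
  ext x
  change psi p f a (Algebra.trace (KF p f) (KF p (f * m)) x) = _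
  rw [psi_apply, psi_apply, trace_trace_gen]

theorem sub (f m j : ℕ) (hf : 1 ≤ f) (hm : 1 ≤ m) :
    TT hγ (f * m) ((p ^ (f * m) - 1) / (p ^ f - 1) * j) = (m : ZMod p) * TT hγ f j := by
  let _ := algKF p f m
  have := tower_KF p f m
  have := finite_KF p (Nat.mul_pos hf hm)
  have := finite_KF p hf
  rw [TT_eq hγ (Nat.mul_pos hf hm), TT_eq hγ hf]
  have h1 : gK hγ (Nat.mul_pos hf hm) ^ ((p ^ (f * m) - 1) / (p ^ f - 1) * j) =
      algebraMap (KF p f) (KF p (f * m)) (gK hγ hf ^ j) := by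
    apply Subtype.ext
    change γ (f * m) ^ ((p ^ (f * m) - 1) / (p ^ f - 1) * j) = γ f ^ j
    rw [pow_mul, hγ.comp f m hf hm]
  rw [h1, trace_algebraMap_gen, finrank_tower p hf hm, nsmul_eq_mul]

end tower

end Cfsg.Agent.H577.KGV
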