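import Mathlib

/-!
# Norm compatible primitive elements of the finite fields (KGV, NT6a): the definition (helper577)
-/

set_option autoImplicit false

namespace Cfsg.Agent.H577.KGV

/-- `γ f` is a primitive element of the field with `p ^ f` elements, `γ f` is the norm of
`γ (f * m)`. -/
structure NormGen (p : ℕ) [Fact p.Prime] (γ : ℕ → AlgebraicClosure (ZMod p)) : Prop where
  ord : ∀ f, 1 ≤ f → orderOf (γ f) = p ^ f - 1
  comp : ∀ f m, 1 ≤ f → 1 ≤ m → γ (f * m) ^ ((p ^ (f * m) - 1) / (p ^ f - 1)) = γ f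

end Cfsg.Agent.H577.KGV
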