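import Cfsg.Agent.H577.KGV.Cst
import Cfsg.Agent.H450.KGV.Gamma

/-!
# The Gauss system (KGV, NT6b; helper577)

`lift`, `split`, `nonsplit` and `exists_gaussSys` from the Hasse-Davenport theorems.
-/

set_option autoImplicit false

namespace Cfsg.Agent.H577.KGV

open Finset Polynomial Cfsg.Agent.H644.KGV

variable {p : ℕ} [Fact p.Prime]
variable {γ : ℕ → AlgebraicClosure (ZMod p)} (hγ : NormGen p γ)

/-- The field `lift`. -/
theorem lift (h1 : HDLift) (f m : ℕ) (a : ZMod p) (z : ℂ) (hf : 1 ≤ f) (hm : 1 ≤ m) (ha : a ≠ 0)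
    (hz : z ^ (p ^ f - 1) = 1) : PG p (TT hγ) (f * m) a z = PG p (TT hγ) f a z ^ m := by
  have := finite_KF p hf
  have := finite_KF p (Nat.mul_pos hf hm)
  have := Fintype.ofFinite (KF p f)
  have := Fintype.ofFinite (KF p (f * m))
  let _ := algKF p f m
  have h := h1 (KF p f) (KF p (f * m)) (om hγ hf z) (psi p f a) (psi_ne_one p hf ha)
  rw [mulNorm_om hγ hf hm hz, addTrace_psi hf hm a, finrank_tower p hf hm] at h
  rw [PG_eq hγ (Nat.mul_pos hf hm) a (pow_q_one hz), PG_eq hγ hf a hz, h]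

theorem cG_two' {f : ℕ} [Fintype (KF p f)] {a : ZMod p} (hf : 1 ≤ f) (ha : a ≠ 0) (h2 : (-1 : ℂ) ^ (p ^ f - 1) = 1) :
    cG p (TT hγ) f 2 a = -gaussSum (om hγ hf (-1)) (psi p f a) := by
  rw [cG_two hγ hf ha, PG_eq hγ hf a h2]

theorem ringChar_ne_two {f : ℕ} (hf : 1 ≤ f) (h2 : 2 ∣ p ^ f - 1) : ringChar (KF p f) ≠ 2 := by
  have h1 : ringChar (KF p f) = p := ringChar.eq (KF p f) p |>.symm ▸ rfl
  rw [h1]
  rintro rfl
  have h3 := one_lt_q 2 hf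
  have h4 : 2 ∣ 2 ^ f := dvd_pow_self 2 (by omega)
  omega

theorem om_neg_one_ne {f : ℕ} (hf : 1 ≤ f) (h2 : (-1 : ℂ) ^ (p ^ f - 1) = 1) : om hγ hf (-1) ≠ 1 := by
  intro h
  have := (om_eq_one_iff hγ hf h2).1 h
  norm_num at this

theorem om_neg_one_sq {f : ℕ} (hf : 1 ≤ f) (h2 : (-1 : ℂ) ^ (p ^ f - 1) = 1) : om hγ hf (-1) ^ 2 = 1 := by
  rw [← om_pow hγ hf h2, neg_one_sq, om_one]

omit [Fact p.Prime] in
theorem neg_one_pow_q {f : ℕ} (h2 : 2 ∣ p ^ f - 1) : (-1 : ℂ) ^ (p ^ f - 1) = 1 := by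
  obtain ⟨c, hc⟩ := h2
  rw [hc, pow_mul, neg_one_sq, one_pow]

/-- The field `split`. -/
theorem split (h2 : HDTwo) (h3 : HDOdd) (f ℓ : ℕ) (a : ZMod p) (z : ℂ) (hf : 1 ≤ f) (hl : ℓ.Prime)
    (hd : ℓ ∣ p ^ f - 1) (ha : a ≠ 0) (hz : z ^ (p ^ f - 1) = 1) :
    ∏ w ∈ nthRootsFinset ℓ (1 : ℂ), PG p (TT hγ) f a (z * w) =
      PG p (TT hγ) f ((ℓ : ZMod p) * a) (z ^ ℓ) * cG p (TT hγ) f ℓ a := by
  have := finite_KF p hf
  have := Fintype.ofFinite (KF p f)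
  have hzl : (z ^ ℓ) ^ (p ^ f - 1) = 1 := by rw [← pow_mul, mul_comm, pow_mul, hz, one_pow]
  rcases hl.eq_two_or_odd' with rfl | ho
  · have hm := neg_one_pow_q (p := p) (f := f) hd
    have hmz : (z * -1) ^ (p ^ f - 1) = 1 := by rw [mul_pow, hz, hm, one_mul]
    have h1 : nthRootsFinset 2 (1 : ℂ) = {1, -1} := by
      ext x
      rw [mem_nthRootsFinset (by norm_num), Finset.mem_insert, Finset.mem_singleton, pow_two, mul_self_eq_one_iff]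
    have h4 := h2 (KF p f) (om hγ hf z) (om hγ hf (-1)) (psi p f a) (psi_ne_one p hf ha)
      (ringChar_ne_two hf hd) (om_neg_one_ne hγ hf hm) (om_neg_one_sq hγ hf hm)
    rw [← om_mul hγ hf hz hm, ← om_pow hγ hf hz, show (2 : KF p f) = ((2 : ℕ) : KF p f) by norm_num,
      psi_mulShift] at h4
    rw [h1, Finset.prod_pair (by norm_num), mul_one, cG_two' hγ hf ha hm, PG_eq hγ hf a hz,
      PG_eq hγ hf a hmz, PG_eq hγ hf _ hzl, neg_mul_neg, neg_mul_neg, h4]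
  · have hl0 : 0 < ℓ := hl.pos
    have hp := Complex.isPrimitiveRoot_exp ℓ hl0.ne'
    rw [prod_nthRoots hl0, cG_odd hγ hf ha ho hd]
    set ζ := Complex.exp (2 * Real.pi * Complex.I / ℓ) with hζ
    have hζ1 : ζ ^ (p ^ f - 1) = 1 := by
      obtain ⟨c, hc⟩ := hd
      rw [hc, pow_mul, hp.pow_eq_one, one_pow]
    have hord : orderOf (om hγ hf ζ) = ℓ := by rw [orderOf_om hγ hf hζ1, ← hp.eq_orderOf]
    have h4 := h3 (KF p f) (om hγ hf z) (om hγ hf ζ) (psi p f a) ℓ (psi_ne_one p hf ha) hl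
      (by rintro rfl; exact absurd ho (by decide)) hord
    rw [card_KF' hf, psi_mulShift, ← om_pow hγ hf hz] at h4
    rw [PG_eq hγ hf _ hzl]
    push_cast at h4
    rw [← h4]
    refine Finset.prod_congr rfl fun i _ => ?_
    have hζi : (ζ ^ i) ^ (p ^ f - 1) = 1 := by rw [← pow_mul, mul_comm, pow_mul, hζ1, one_pow]
    rw [PG_eq hγ hf a (by rw [mul_pow, hz, hζi, one_mul]), om_mul hγ hf hz hζi, om_pow hγ hf hζ1]

theorem dvd_aux {f ℓ : ℕ} (hf : 1 ≤ f) (hd : ℓ ∣ p ^ f - 1) : ℓ * (p ^ f - 1) ∣ p ^ (f * ℓ) - 1 := by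
  have h1 : p ^ (f * ℓ) - 1 = (∑ i ∈ range ℓ, (p ^ f) ^ i) * (p ^ f - 1) := by
    have h2 := Nat.geomSum_eq (one_lt_q p hf) ℓ
    have h3 : p ^ f - 1 ∣ (p ^ f) ^ ℓ - 1 := Nat.sub_one_dvd_pow_sub_one _ _
    rw [h2, Nat.div_mul_cancel h3, pow_mul]
  rw [h1]
  refine Nat.mul_dvd_mul ?_ dvd_rfl
  have h4 : (∑ i ∈ range ℓ, (p ^ f) ^ i) ≡ ∑ i ∈ range ℓ, 1 [MOD ℓ] := by
    have h5 : p ^ f ≡ 1 [MOD ℓ] := ((Nat.modEq_iff_dvd' (one_lt_q p hf).le).2 hd).symm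
    refine Nat.ModEq.sum fun i _ => ?_
    simpa using h5.pow i
  rw [Finset.sum_const, Finset.card_range, smul_eq_mul, mul_one] at h4
  exact (Nat.modEq_zero_iff_dvd.1 (h4.trans (Nat.modEq_zero_iff_dvd.2 dvd_rfl)))

/-- The field `nonsplit`. -/
theorem nonsplit (h4 : HDOddNS) (h5 : HDTwoNS) (f ℓ : ℕ) (a : ZMod p) (z : ℂ) (hf : 1 ≤ f) (hl : ℓ.Prime)
    (hd : ℓ ∣ p ^ f - 1) (ha : a ≠ 0) (hz : (z ^ ℓ) ^ (p ^ f - 1) = 1) (hz1 : z ^ (p ^ f - 1) ≠ 1) :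
    PG p (TT hγ) (f * ℓ) a z = PG p (TT hγ) f ((ℓ : ZMod p) * a) (z ^ ℓ) * cG p (TT hγ) f ℓ a := by
  have hm : 1 ≤ ℓ := hl.pos
  have hfm : 1 ≤ f * ℓ := Nat.mul_pos hf hm
  have := finite_KF p hf
  have := finite_KF p hfm
  have := Fintype.ofFinite (KF p f)
  have := Fintype.ofFinite (KF p (f * ℓ))
  let _ := algKF p f ℓ
  have hzq : z ^ (p ^ (f * ℓ) - 1) = 1 := by
    obtain ⟨c, hc⟩ := dvd_aux (p := p) hf hd
    rw [hc, pow_mul, pow_mul, hz, one_pow]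
  have hX : om hγ hfm z ^ ℓ = mulNorm (L := KF p (f * ℓ)) (om hγ hf (z ^ ℓ)) := by
    rw [mulNorm_om hγ hf hm hz, om_pow hγ hfm hzq]
  have hX1 : om hγ hfm z ^ (Fintype.card (KF p f) - 1) ≠ 1 := by
    rw [card_KF' hf, ← om_pow hγ hfm hzq]
    intro h
    apply hz1
    refine (om_eq_one_iff hγ hfm ?_).1 h
    rw [← pow_mul, mul_comm, pow_mul, hzq, one_pow]
  rcases hl.eq_two_or_odd' with rfl | ho
  · have hmm := neg_one_pow_q (p := p) (f := f) hd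
    have h6 := h5 (KF p f) (KF p (f * 2)) (om hγ hfm z) (om hγ hf (z ^ 2)) (om hγ hf (-1)) (psi p f a)
      (psi_ne_one p hf ha) (ringChar_ne_two hf hd) (om_neg_one_ne hγ hf hmm) (om_neg_one_sq hγ hf hmm)
      (finrank_tower p hf hm) hX hX1
    rw [addTrace_psi hf hm a, show (2 : KF p f) = ((2 : ℕ) : KF p f) by norm_num, psi_mulShift] at h6
    rw [PG_eq hγ hfm a hzq, h6, cG_two' hγ hf ha hmm, PG_eq hγ hf _ hz, neg_mul_neg]
  · have h6 := h4 (KF p f) (KF p (f * ℓ)) (om hγ hfm z) (om hγ hf (z ^ ℓ)) (psi p f a) ℓ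
      (psi_ne_one p hf ha) hl (by rintro rfl; exact absurd ho (by decide)) (by rw [card_KF' hf]; exact hd)
      (finrank_tower p hf hm) hX hX1
    rw [addTrace_psi hf hm a, psi_mulShift, card_KF' hf] at h6
    rw [PG_eq hγ hfm a hzq, h6, cG_odd hγ hf ha ho hd, PG_eq hγ hf _ hz]
    push_cast
    rfl

/-- **The Gauss system.** -/
theorem exists_gaussSys (h1 : HDLift) (h2 : HDTwo) (h3 : HDOdd) (h4 : HDOddNS) (h5 : HDTwoNS)
    (p : ℕ) [Fact p.Prime] : ∃ T, GaussSys p T := by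
  obtain ⟨γ, hγ⟩ := Cfsg.Agent.H450.KGV.exists_normGen p
  exact ⟨TT hγ, {
    per := per hγ
    frob := frob hγ
    sub := sub hγ
    one := one hγ
    norm := norm hγ
    ideal := ideal hγ
    lift := lift hγ h1
    split := split hγ h2 h3
    nonsplit := nonsplit hγ h4 h5
    cst := cst hγ }⟩

end Cfsg.Agent.H577.KGV
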